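import Mathlib
import Groth.Prelude.Def_NonAbH2

/-!
# Etale-local gluing of morphisms of schemes (representables are sheaves)
-/

set_option autoImplicit false
universe u
open CategoryTheory AlgebraicGeometry Limits Opposite

namespace Groth.Agent.Lib.Helper24.TorsRed

theorem etale_le_fppf : Scheme.etalePrecoverage.{u} ≤ Scheme.fppfPrecoverage.{u} :=
  Scheme.precoverage_mono fun _ _ f hf => by
    have : Etale f := hf
    exact ⟨inferInstance, inferInstance⟩

theorem isSheafFor_yoneda {X : Scheme.{u}} (R : Presieve X) (hR : R ∈ Scheme.etalePrecoverage X)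
    (Z : Scheme.{u}) : Presieve.IsSheafFor (yoneda.obj Z) R := by
  have h1 : R ∈ Scheme.fppfPrecoverage X := etale_le_fppf X hR
  exact (GrothendieckTopology.Subcanonical.isSheaf_of_isRepresentable
    (J := Scheme.fppfTopology) (yoneda.obj Z)).isSheafFor R
    (Precoverage.generate_mem_toGrothendieck h1)

theorem hom_ext_of_cover {X Z : Scheme.{u}} (R : Presieve X) (hR : R ∈ Scheme.etalePrecoverage X)
    (a b : X ⟶ Z) (h : ∀ ⦃U : Scheme.{u}⦄ (f : U ⟶ X), R f → f ≫ a = f ≫ b) : a = b :=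
  (isSheafFor_yoneda R hR Z).isSeparatedFor.ext (fun _ f hf => h f hf)

theorem exists_glue {X Z : Scheme.{u}} (R : Presieve X) (hR : R ∈ Scheme.etalePrecoverage X)
    (x : ∀ ⦃U : Scheme.{u}⦄ (f : U ⟶ X), R f → (U ⟶ Z))
    (hx : ∀ ⦃U₁ U₂ W : Scheme.{u}⦄ (g₁ : W ⟶ U₁) (g₂ : W ⟶ U₂) (f₁ : U₁ ⟶ X) (f₂ : U₂ ⟶ X)
      (h₁ : R f₁) (h₂ : R f₂), g₁ ≫ f₁ = g₂ ≫ f₂ → g₁ ≫ x f₁ h₁ = g₂ ≫ x f₂ h₂) :
    ∃ s : X ⟶ Z, ∀ ⦃U : Scheme.{u}⦄ (f : U ⟶ X) (hf : R f), f ≫ s = x f hf := by
  let fam : Presieve.FamilyOfElements (yoneda.obj Z) R := fun U f hf => x f hf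
  have hfam : fam.Compatible := by
    intro U₁ U₂ W g₁ g₂ f₁ f₂ h₁ h₂ hc
    exact hx g₁ g₂ f₁ f₂ h₁ h₂ hc
  obtain ⟨s, hs, -⟩ := isSheafFor_yoneda R hR Z fam hfam
  exact ⟨s, fun U f hf => hs f hf⟩

theorem isIso_of_mono_of_local_sections {P T : Scheme.{u}} (θ : P ⟶ T) [Mono θ]
    (R : Presieve T) (hR : R ∈ Scheme.etalePrecoverage T)
    (h : ∀ ⦃U : Scheme.{u}⦄ (c : U ⟶ T), R c → ∃ t : U ⟶ P, t ≫ θ = c) : IsIso θ := by
  choose t ht using h
  obtain ⟨s, hs⟩ := exists_glue R hR (Z := P) (fun U c hc => t c hc) (by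
    intro U₁ U₂ W g₁ g₂ f₁ f₂ h₁ h₂ hc
    rw [← cancel_mono θ, Category.assoc, Category.assoc, ht, ht, hc])
  have h1 : s ≫ θ = 𝟙 T := by
    apply hom_ext_of_cover R hR
    intro U f hf
    rw [← Category.assoc, hs f hf, ht, Category.comp_id]
  have h2 : θ ≫ s = 𝟙 P := by
    rw [← cancel_mono θ, Category.assoc, h1, Category.comp_id, Category.id_comp]
  exact ⟨s, h2, h1⟩

variable {S : Scheme.{u}}

/-- a commutative square in `Over S` is a pullback if the comparison map is a monomorphism and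
points of the pullback lift etale-locally -/
theorem isPullback_of_local_et {P X Y Z : Over S} (a : P ⟶ X) (b : P ⟶ Y) (f : X ⟶ Z) (g : Y ⟶ Z)
    (w : a ≫ f = b ≫ g)
    (hmono : ∀ (T : Over S) (s t : T ⟶ P), s ≫ a = t ≫ a → s ≫ b = t ≫ b → s = t)
    (hloc : ∀ (T : Over S) (x : T ⟶ X) (y : T ⟶ Y), x ≫ f = y ≫ g →
      ∃ R ∈ Scheme.etalePrecoverage T.left, ∀ ⦃U : Scheme.{u}⦄ (c : U ⟶ T.left), R c →
        ∃ t' : Over.mk (c ≫ T.hom) ⟶ P,
          t' ≫ a = (Over.homMk c rfl : Over.mk (c ≫ T.hom) ⟶ T) ≫ x ∧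
          t' ≫ b = (Over.homMk c rfl : Over.mk (c ≫ T.hom) ⟶ T) ≫ y) :
    IsPullback a b f g := by
  let θ : P ⟶ pullback f g := pullback.lift a b w
  haveI : Mono θ := by
    constructor
    intro T s t hst
    apply hmono T s t
    · have := congrArg (· ≫ pullback.fst f g) hst
      simp only [θ, Category.assoc] at this
      rwa [pullback.lift_fst] at this
    · have := congrArg (· ≫ pullback.snd f g) hst
      simp only [θ, Category.assoc] at this
      rwa [pullback.lift_snd] at this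
  obtain ⟨R, hR, hsec⟩ := hloc (pullback f g) (pullback.fst f g) (pullback.snd f g)
    pullback.condition
  haveI : Mono θ.left := inferInstance
  haveI : IsIso θ.left := by
    apply isIso_of_mono_of_local_sections θ.left R hR
    intro U c hc
    obtain ⟨t', h1, h2⟩ := hsec c hc
    refine ⟨t'.left, ?_⟩
    have : t' ≫ θ = (Over.homMk c rfl : Over.mk (c ≫ (pullback f g).hom) ⟶ pullback f g) := by
      apply pullback.hom_ext
      · rw [Category.assoc, pullback.lift_fst, h1]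
      · rw [Category.assoc, pullback.lift_snd, h2]
    have := congrArg (fun m => m.left) this
    simpa using this
  haveI : IsIso ((Over.forget S).map θ) := ‹IsIso θ.left›
  haveI : IsIso θ := isIso_of_reflects_iso θ (Over.forget S)
  exact IsPullback.of_iso_pullback ⟨w⟩ (asIso θ) (pullback.lift_fst _ _ _) (pullback.lift_snd _ _ _)

end Groth.Agent.Lib.Helper24.TorsRed
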