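import Groth.Statements.S16226
import Groth.Prelude.Def_ActBC
import Groth.Agent.Lib.Helper24.ActKer.Main14643

/-!
# Reduction of structure group from a section of the quotient (S16226)
-/

set_option autoImplicit false
universe u
open CategoryTheory MonoidalCategory CartesianMonoidalCategory MonObj GrpObj AlgebraicGeometry Limits

namespace Groth.Agent.Lib.Helper24.TorsRed

open Groth.Agent.Lib.Helper4.ActShear Groth.Agent.Lib.Helper24.ActKer

noncomputable section

variable {S : Scheme.{u}} {G F Q : Over S} [GrpObj G] (b : AlgGrp.Action G F) (π : F ⟶ Q)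
  (hsq : IsPullback b.act (snd G F) π π) (σ : 𝟙_ (Over S) ⟶ Q)
  {E : Over S} (φ : E ⟶ F) (hE : IsPullback φ (toUnit E) π σ)

include hsq hE in
theorem act_cond : ((G ◁ φ) ≫ b.act) ≫ π = toUnit (G ⊗ E) ≫ σ := by
  rw [Category.assoc, hsq.w, ← Category.assoc, whiskerLeft_snd, Category.assoc, hE.w,
    ← Category.assoc]
  congr 1
  exact toUnit_unique _ _

/-- the induced action morphism on the fibre `E` of `π` over `σ` -/
def actE : G ⊗ E ⟶ E := hE.lift ((G ◁ φ) ≫ b.act) (toUnit _) (act_cond b π hsq σ φ hE)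

theorem actE_φ : actE b π hsq σ φ hE ≫ φ = (G ◁ φ) ≫ b.act := hE.lift_fst _ _ _

include hE in
omit [GrpObj G] in
theorem ext_E {T : Over S} (x y : T ⟶ E) (h : x ≫ φ = y ≫ φ) : x = y :=
  hE.hom_ext h (toUnit_unique _ _)

theorem lift_actE_φ {T : Over S} (g : T ⟶ G) (x : T ⟶ E) :
    (lift g x ≫ actE b π hsq σ φ hE) ≫ φ = smul b g (x ≫ φ) := by
  rw [Category.assoc, actE_φ, lift_whiskerLeft_assoc]
  rfl

/-- the induced action on `E` -/
def aE : AlgGrp.Action G E :=
  actionOfPts (actE b π hsq σ φ hE)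
    (by
      intro T x
      apply ext_E π σ φ hE
      rw [lift_actE_φ]
      exact ActKer.one_smul b _)
    (by
      intro T g h x
      apply ext_E π σ φ hE
      rw [lift_actE_φ, lift_actE_φ, lift_actE_φ]
      exact ActKer.mul_smul b g h _)

theorem aE_act : (aE b π hsq σ φ hE).act = actE b π hsq σ φ hE := rfl

theorem isEquivariant : AlgGrp.Action.IsEquivariant (aE b π hsq σ φ hE) b φ := by
  unfold AlgGrp.Action.IsEquivariant
  rw [aE_act, actE_φ]

include hE in
omit [GrpObj G] in
theorem pi_const {T : Over S} (x y : T ⟶ E) : (x ≫ φ) ≫ π = (y ≫ φ) ≫ π := by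
  rw [Category.assoc, Category.assoc, hE.w, ← Category.assoc, ← Category.assoc]
  congr 1
  exact toUnit_unique _ _

/-- the inverse of the shear map -/
def shearInv : E ⊗ E ⟶ G ⊗ E :=
  lift (hsq.lift (fst E E ≫ φ) (snd E E ≫ φ) (pi_const π σ φ hE _ _) ≫ fst G F) (snd E E)

theorem isPseudoTorsor : NonAbH1.IsPseudoTorsorSch (aE b π hsq σ φ hE) := by
  unfold NonAbH1.IsPseudoTorsorSch
  refine ⟨shearInv b π hsq σ φ hE, ?_, ?_⟩
  · -- lift act snd ≫ shearInv = 𝟙
    apply CartesianMonoidalCategory.hom_ext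
    · unfold shearInv
      rw [Category.assoc, lift_fst, Category.id_comp]
      have key : lift (aE b π hsq σ φ hE).act (snd G E) ≫
          hsq.lift (fst E E ≫ φ) (snd E E ≫ φ) (pi_const π σ φ hE _ _) = G ◁ φ := by
        apply hsq.hom_ext
        · rw [Category.assoc, hsq.lift_fst, lift_fst_assoc, aE_act, actE_φ]
        · rw [Category.assoc, hsq.lift_snd, lift_snd_assoc, whiskerLeft_snd]
      rw [← Category.assoc, key, whiskerLeft_fst]
    · unfold shearInv
      rw [Category.assoc, lift_snd, lift_snd, Category.id_comp]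
  · apply CartesianMonoidalCategory.hom_ext
    · rw [Category.assoc, lift_fst, Category.id_comp]
      apply ext_E π σ φ hE
      rw [Category.assoc, aE_act, actE_φ]
      unfold shearInv
      have : lift (hsq.lift (fst E E ≫ φ) (snd E E ≫ φ) (pi_const π σ φ hE _ _) ≫ fst G F)
          (snd E E) ≫ (G ◁ φ) =
          hsq.lift (fst E E ≫ φ) (snd E E ≫ φ) (pi_const π σ φ hE _ _) := by
        apply CartesianMonoidalCategory.hom_ext
        · rw [Category.assoc, whiskerLeft_fst, lift_fst]
        · rw [Category.assoc, whiskerLeft_snd, lift_snd_assoc, hsq.lift_snd]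
      rw [← Category.assoc, this, hsq.lift_fst]
    · unfold shearInv
      rw [Category.assoc, lift_snd, lift_snd, Category.id_comp]

end

section loc

variable {S : Scheme.{u}} {F Q E : Over S} (π : F ⟶ Q) (σ : 𝟙_ (Over S) ⟶ Q)
  (φ : E ⟶ F) (hE : IsPullback φ (toUnit E) π σ)

include hE in
theorem isLocallyTrivial (K : Precoverage Scheme.{u}) [K.IsStableUnderBaseChange]
    (hloc : NonAbH1.IsLocallyTrivialFor K (Over.mk π.left : Over Q.left)) :
    NonAbH1.IsLocallyTrivialFor K E := by
  obtain ⟨R, hR, hsec⟩ := hloc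
  refine ⟨R.pullbackArrows σ.left, Precoverage.pullbackArrows_mem σ.left hR, ?_⟩
  rintro T g ⟨Z, u, hu⟩
  obtain ⟨s, hs⟩ := hsec u hu
  -- s : Z ⟶ F.left with s ≫ π.left = u
  change s ≫ π.left = u at hs
  -- the T-point of E
  let T' : Over S := Over.mk (pullback.snd u σ.left)
  have hS : (𝟙_ (Over S)).hom = 𝟙 S := rfl
  let f : T' ⟶ F := Over.homMk (pullback.fst u σ.left ≫ s) (by
    have h1 : π.left ≫ Q.hom = F.hom := Over.w π
    have h2 : σ.left ≫ Q.hom = 𝟙 S := by
      have := Over.w σ
      rwa [hS] at this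
    change (pullback.fst u σ.left ≫ s) ≫ F.hom = pullback.snd u σ.left
    rw [← h1, Category.assoc, ← Category.assoc s, hs, pullback.condition_assoc, h2]
    exact Category.comp_id _)
  have hf : f ≫ π = toUnit T' ≫ σ := by
    apply Over.OverMorphism.ext
    change (pullback.fst u σ.left ≫ s) ≫ π.left = (toUnit T').left ≫ σ.left
    rw [Category.assoc, hs, pullback.condition]
    congr 1
  refine ⟨(hE.lift f (toUnit T') hf).left, ?_⟩
  exact Over.w (hE.lift f (toUnit T') hf)

end loc

end Groth.Agent.Lib.Helper24.TorsRed
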