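import Groth.Statements.S16227
import Groth.Agent.Lib.Helper24.TorsRed.EtLoc
import Groth.Agent.Lib.Helper24.ActKer.Main14643

/-!
# A reduction of structure group determines a section of the quotient (S16227)
-/

set_option autoImplicit false
universe u
open CategoryTheory MonoidalCategory CartesianMonoidalCategory MonObj GrpObj AlgebraicGeometry Limits

namespace Groth.Agent.Lib.Helper24.TorsRed

open Groth.Agent.Lib.Helper4.ActShear Groth.Agent.Lib.Helper24.ActKer

variable {S : Scheme.{u}} {G F Q E : Over S} [GrpObj G] (b : AlgGrp.Action G F) (π : F ⟶ Q)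
  (hsq : IsPullback b.act (snd G F) π π)
  (aE : AlgGrp.Action G E) (hE : NonAbH1.IsPseudoTorsorSch aE)
  (φ : E ⟶ F) (hφ : AlgGrp.Action.IsEquivariant aE b φ)

include hE in
/-- two points of a pseudo-torsor differ by a point of the group -/
theorem exists_translate {T : Over S} (e₁ e₂ : T ⟶ E) :
    ∃ g : T ⟶ G, smul aE g e₂ = e₁ := by
  haveI : IsIso (lift aE.act (snd G E)) := hE
  let z : T ⟶ G ⊗ E := lift e₁ e₂ ≫ inv (lift aE.act (snd G E))
  have hz : z ≫ lift aE.act (snd G E) = lift e₁ e₂ := by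
    simp only [z, Category.assoc, IsIso.inv_hom_id, Category.comp_id]
  have h1 : z ≫ aE.act = e₁ := by
    have := congrArg (· ≫ fst E E) hz
    simpa using this
  have h2 : z ≫ snd G E = e₂ := by
    have := congrArg (· ≫ snd E E) hz
    simpa using this
  refine ⟨z ≫ fst G E, ?_⟩
  unfold smul
  rw [← h2]
  have : lift (z ≫ fst G E) (z ≫ snd G E) = z := by
    apply CartesianMonoidalCategory.hom_ext <;> simp
  rw [this, h1]

include hφ in
theorem smul_φ {T : Over S} (g : T ⟶ G) (e : T ⟶ E) :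
    smul aE g e ≫ φ = smul b g (e ≫ φ) := by
  unfold smul
  unfold AlgGrp.Action.IsEquivariant at hφ
  rw [Category.assoc, hφ, lift_whiskerLeft_assoc]

include hsq in
theorem smul_π {T : Over S} (g : T ⟶ G) (x : T ⟶ F) : smul b g x ≫ π = x ≫ π := by
  unfold smul
  rw [Category.assoc, hsq.w, lift_snd_assoc]

include hsq hE hφ in
/-- `φ ≫ π` is constant on points of `E` -/
theorem const_π {T : Over S} (e₁ e₂ : T ⟶ E) : (e₁ ≫ φ) ≫ π = (e₂ ≫ φ) ≫ π := by
  obtain ⟨g, hg⟩ := exists_translate aE hE e₁ e₂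
  rw [← hg, smul_φ b aE φ hφ, smul_π b π hsq]

include hsq hE hφ in
/-- `φ` is a monomorphism -/
theorem φ_inj {T : Over S} (s t : T ⟶ E) (h : s ≫ φ = t ≫ φ) : s = t := by
  obtain ⟨g, hg⟩ := exists_translate aE hE s t
  have h1 : smul b g (t ≫ φ) = t ≫ φ := by
    rw [← smul_φ b aE φ hφ, hg, h]
  have h2 : lift g (t ≫ φ) = lift (1 : T ⟶ G) (t ≫ φ) := by
    apply hsq.hom_ext
    · change smul b g (t ≫ φ) = smul b 1 (t ≫ φ)
      rw [h1, ActKer.one_smul]
    · rw [lift_snd, lift_snd]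
  have h3 : g = 1 := by
    have := congrArg (· ≫ fst G F) h2
    simpa using this
  rw [← hg, h3, ActKer.one_smul]

section sect

variable (hloc : NonAbH1.IsLocallyTrivialFor Scheme.etalePrecoverage E)

include hsq hE hφ hloc in
theorem existsUnique_section :
    ∃! σ : 𝟙_ (Over S) ⟶ Q, toUnit E ≫ σ = φ ≫ π := by
  obtain ⟨R, hR, hsec⟩ := hloc
  choose s hs using hsec
  -- local points of E
  let e : ∀ ⦃U : Scheme.{u}⦄ (f : U ⟶ S) (hf : R f), Over.mk f ⟶ E :=
    fun U f hf => Over.homMk (s f hf) (hs f hf)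
  have hcompat : ∀ ⦃U₁ U₂ W : Scheme.{u}⦄ (g₁ : W ⟶ U₁) (g₂ : W ⟶ U₂) (f₁ : U₁ ⟶ S) (f₂ : U₂ ⟶ S)
      (h₁ : R f₁) (h₂ : R f₂), g₁ ≫ f₁ = g₂ ≫ f₂ →
      g₁ ≫ (s f₁ h₁ ≫ φ.left ≫ π.left) = g₂ ≫ (s f₂ h₂ ≫ φ.left ≫ π.left) := by
    intro U₁ U₂ W g₁ g₂ f₁ f₂ h₁ h₂ hc
    let T : Over S := Over.mk (g₁ ≫ f₁)
    let e₁ : T ⟶ E := Over.homMk (g₁ ≫ s f₁ h₁) (by
      change (g₁ ≫ s f₁ h₁) ≫ E.hom = g₁ ≫ f₁
      rw [Category.assoc, hs])
    let e₂ : T ⟶ E := Over.homMk (g₂ ≫ s f₂ h₂) (by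
      change (g₂ ≫ s f₂ h₂) ≫ E.hom = g₁ ≫ f₁
      rw [Category.assoc, hs, hc])
    have := congrArg (fun m => m.left) (const_π b π hsq aE hE φ hφ e₁ e₂)
    simpa [e₁, e₂, Category.assoc] using this
  obtain ⟨σ₀, hσ₀⟩ := exists_glue R hR (Z := Q.left)
    (fun U f hf => s f hf ≫ φ.left ≫ π.left) hcompat
  have hover : σ₀ ≫ Q.hom = 𝟙 S := by
    apply hom_ext_of_cover R hR
    intro U f hf
    rw [← Category.assoc, hσ₀ f hf, Category.assoc, Category.assoc, Over.w π, Over.w φ, hs,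
      Category.comp_id]
  let σ : 𝟙_ (Over S) ⟶ Q := Over.homMk σ₀ hover
  have hσ : toUnit E ≫ σ = φ ≫ π := by
    apply Over.OverMorphism.ext
    change (toUnit E).left ≫ σ₀ = φ.left ≫ π.left
    have hu : (toUnit E).left = E.hom := by
      have := Over.w (toUnit E)
      have hS : (𝟙_ (Over S)).hom = 𝟙 S := rfl
      rw [hS] at this
      exact (Category.comp_id _).symm.trans this
    rw [hu]
    apply hom_ext_of_cover (R.pullbackArrows E.hom) (Precoverage.pullbackArrows_mem E.hom hR)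
    rintro V c ⟨U, f, hf⟩
    rw [← Category.assoc, ← pullback.condition, Category.assoc, hσ₀ f hf]
    let T : Over S := Over.mk (pullback.fst f E.hom ≫ f)
    let e₁ : T ⟶ E := Over.homMk (pullback.fst f E.hom ≫ s f hf) (by
      change (pullback.fst f E.hom ≫ s f hf) ≫ E.hom = pullback.fst f E.hom ≫ f
      rw [Category.assoc, hs])
    let e₂ : T ⟶ E := Over.homMk (pullback.snd f E.hom) (by
      change pullback.snd f E.hom ≫ E.hom = pullback.fst f E.hom ≫ f
      rw [pullback.condition])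
    have := congrArg (fun m => m.left) (const_π b π hsq aE hE φ hφ e₁ e₂)
    simpa [e₁, e₂, Category.assoc] using this
  refine ⟨σ, hσ, ?_⟩
  intro σ' hσ'
  apply Over.OverMorphism.ext
  change σ'.left = σ₀
  apply hom_ext_of_cover R hR
  intro U f hf
  rw [hσ₀ f hf]
  have h1 := congrArg (fun m => m.left) hσ'
  simp only [Over.comp_left] at h1
  have hu : (toUnit E).left = E.hom := by
    have := Over.w (toUnit E)
    have hS : (𝟙_ (Over S)).hom = 𝟙 S := rfl
    rw [hS] at this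
    exact (Category.comp_id _).symm.trans this
  rw [← h1, hu, ← Category.assoc, hs]

include hsq hE hφ hloc in
theorem isPullback_of_section (σ : 𝟙_ (Over S) ⟶ Q) (hσ : toUnit E ≫ σ = φ ≫ π) :
    IsPullback φ (toUnit E) π σ := by
  apply isPullback_of_local_et φ (toUnit E) π σ hσ.symm
  · intro T s t h _
    exact φ_inj b π hsq aE hE φ hφ s t h
  · intro T x y hxy
    obtain ⟨R, hR, hsec⟩ := hloc
    choose s hs using hsec
    refine ⟨R.pullbackArrows T.hom, Precoverage.pullbackArrows_mem T.hom hR, ?_⟩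
    rintro V c ⟨U, f, hf⟩
    -- c = pullback.snd f T.hom
    let T' : Over S := Over.mk (pullback.snd f T.hom ≫ T.hom)
    let c' : T' ⟶ T := Over.homMk (pullback.snd f T.hom) rfl
    let e₀ : T' ⟶ E := Over.homMk (pullback.fst f T.hom ≫ s f hf) (by
      change (pullback.fst f T.hom ≫ s f hf) ≫ E.hom = pullback.snd f T.hom ≫ T.hom
      rw [Category.assoc, hs, pullback.condition])
    have hq : (c' ≫ x) ≫ π = (e₀ ≫ φ) ≫ π := by
      rw [Category.assoc, hxy, Category.assoc, ← hσ, ← Category.assoc, ← Category.assoc]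
      congr 1
      exact toUnit_unique _ _
    let q : T' ⟶ G ⊗ F := hsq.lift (c' ≫ x) (e₀ ≫ φ) hq
    have hq1 : q ≫ b.act = c' ≫ x := hsq.lift_fst _ _ _
    have hq2 : q ≫ snd G F = e₀ ≫ φ := hsq.lift_snd _ _ _
    refine ⟨smul aE (q ≫ fst G F) e₀, ?_, toUnit_unique _ _⟩
    rw [smul_φ b aE φ hφ]
    unfold smul
    have : lift (q ≫ fst G F) (e₀ ≫ φ) = q := by
      apply CartesianMonoidalCategory.hom_ext
      · simp
      · rw [lift_snd, hq2]
    rw [this, hq1]

end sect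

end Groth.Agent.Lib.Helper24.TorsRed
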